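import Mathlib
import Cfsg.Agent.H553.KClass
import Cfsg.Agent.H174.ClassIndex

/-!
# The commuting probability of a finite group: a bound `|G| ≤ b k(G)`

`CB G b` : `|G| ≤ b k(G)`. Subgroups, products, normal subgroups.
-/

set_option autoImplicit false

namespace Cfsg.Agent.H558.CP

open Subgroup

/-- `|G| ≤ b k(G)`. -/
def CB (G : Type*) [Group G] (b : ℚ) : Prop := (Nat.card G : ℚ) ≤ b * Nat.card (ConjClasses G)

theorem CB.mono {G : Type*} [Group G] {b c : ℚ} (h : CB G b) (hbc : b ≤ c) : CB G c :=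
  h.trans (mul_le_mul_of_nonneg_right hbc (Nat.cast_nonneg _))

theorem CB.congr {G H : Type*} [Group G] [Group H] {b : ℚ} (e : G ≃* H) (h : CB G b) : CB H b := by
  unfold CB at *
  rw [← Nat.card_congr e.toEquiv, ← H553.KClass.congr e]
  exact h

theorem CB.subgroup {G : Type*} [Group G] [Finite G] {b : ℚ} (h : CB G b) (hb : 0 ≤ b)
    (H : Subgroup G) : CB H b := by
  unfold CB at *
  have h1 := H174.ClassIndex.card_conjClasses_le H
  have h2 := H.card_mul_index
  have h3 : (Nat.card (ConjClasses G) : ℚ) ≤ H.index * Nat.card (ConjClasses H) := by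
    exact_mod_cast h1
  have h4 : (Nat.card H : ℚ) * H.index = Nat.card G := by exact_mod_cast h2
  have h5 : (0 : ℚ) < H.index := by
    have : H.index ≠ 0 := Subgroup.index_ne_zero_of_finite
    positivity
  have h6 : (Nat.card H : ℚ) * H.index ≤ (b * Nat.card (ConjClasses H)) * H.index := by
    rw [h4]
    calc (Nat.card G : ℚ) ≤ b * Nat.card (ConjClasses G) := h
      _ ≤ b * (H.index * Nat.card (ConjClasses H)) := mul_le_mul_of_nonneg_left h3 hb
      _ = _ := by ring
  exact le_of_mul_le_mul_right h6 h5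

theorem CB.of_injective {G H : Type*} [Group G] [Group H] [Finite G] {b : ℚ} (h : CB G b)
    (hb : 0 ≤ b) (f : H →* G) (hf : Function.Injective f) : CB H b :=
  (h.subgroup hb f.range).congr (MonoidHom.ofInjective hf).symm

/-- `|G| ≤ |G : N|² b k(G)` if `|N| ≤ b k(N)`. -/
theorem CB.of_subgroup {G : Type*} [Group G] [Finite G] {b : ℚ} (N : Subgroup G) (h : CB N b)
    (hb : 0 ≤ b) : CB G (b * (N.index : ℚ) ^ 2) := by
  unfold CB at *
  have h1 := H553.KClass.mul_card_le N
  have h2 := N.card_mul_index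
  have h3 : (Nat.card (ConjClasses N) : ℚ) * Nat.card N ≤ Nat.card (ConjClasses G) * Nat.card G := by
    exact_mod_cast h1
  have h4 : (Nat.card N : ℚ) * N.index = Nat.card G := by exact_mod_cast h2
  have h5 : (0 : ℚ) < Nat.card N := by exact_mod_cast Nat.card_pos
  have h6 : (Nat.card (ConjClasses N) : ℚ) ≤ Nat.card (ConjClasses G) * N.index := by
    refine le_of_mul_le_mul_right ?_ h5
    calc (Nat.card (ConjClasses N) : ℚ) * Nat.card N ≤ Nat.card (ConjClasses G) * Nat.card G := h3
      _ = _ := by rw [← h4]; ring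
  rw [← h4]
  calc (Nat.card N : ℚ) * N.index ≤ (b * Nat.card (ConjClasses N)) * N.index :=
        mul_le_mul_of_nonneg_right h (Nat.cast_nonneg _)
    _ ≤ (b * (Nat.card (ConjClasses G) * N.index)) * N.index :=
        mul_le_mul_of_nonneg_right (mul_le_mul_of_nonneg_left h6 hb) (Nat.cast_nonneg _)
    _ = _ := by ring

/-- the class number of a product -/
theorem card_pi {ι : Type*} [Finite ι] (G : ι → Type*) [∀ i, Group (G i)] [∀ i, Finite (G i)] :
    Nat.card (ConjClasses (∀ i, G i)) = ∏ᶠ i, Nat.card (ConjClasses (G i)) := by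
  classical
  have := Fintype.ofFinite ι
  have e : {p : (∀ i, G i) × (∀ i, G i) // Commute p.1 p.2} ≃
      ∀ i, {p : G i × G i // Commute p.1 p.2} :=
    { toFun := fun p i => ⟨(p.1.1 i, p.1.2 i), congrFun p.2 i⟩
      invFun := fun q => ⟨(fun i => (q i).1.1, fun i => (q i).1.2), funext fun i => (q i).2⟩
      left_inv := fun p => rfl
      right_inv := fun q => rfl }
  have h1 := card_comm_eq_card_conjClasses_mul_card (∀ i, G i)
  rw [Nat.card_congr e, Nat.card_pi] at h1
  have h2 : ∀ i, Nat.card {p : G i × G i // Commute p.1 p.2} =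
      Nat.card (ConjClasses (G i)) * Nat.card (G i) :=
    fun i => card_comm_eq_card_conjClasses_mul_card (G i)
  rw [Finset.prod_congr rfl (fun i _ => h2 i), Finset.prod_mul_distrib, Nat.card_pi] at h1
  have h3 : 0 < ∏ i, Nat.card (G i) := Finset.prod_pos (fun i _ => Nat.card_pos)
  rw [finprod_eq_prod_of_fintype]
  exact (Nat.eq_of_mul_eq_mul_right h3 h1).symm

theorem CB.pi {ι : Type*} [Fintype ι] (G : ι → Type*) [∀ i, Group (G i)] [∀ i, Finite (G i)]
    (b : ι → ℚ) (hb : ∀ i, 0 ≤ b i) (h : ∀ i, CB (G i) (b i)) : CB (∀ i, G i) (∏ i, b i) := by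
  unfold CB at *
  rw [card_pi, finprod_eq_prod_of_fintype, Nat.card_pi]
  push_cast
  rw [← Finset.prod_mul_distrib]
  exact Finset.prod_le_prod (fun i _ => Nat.cast_nonneg _) (fun i _ => h i)

theorem CB.of_comm {G : Type*} [Group G] [Finite G] (h : ∀ x y : G, x * y = y * x) : CB G 1 := by
  unfold CB
  rw [one_mul]
  have : Nat.card G ≤ Nat.card (ConjClasses G) := by
    refine Nat.card_le_card_of_injective (fun x : G => ConjClasses.mk x) ?_
    intro x y hxy
    obtain ⟨g, hg⟩ := isConj_iff.mp (ConjClasses.mk_eq_mk_iff_isConj.mp hxy)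
    rw [← hg, h g x, mul_assoc, mul_inv_cancel, mul_one]
  exact_mod_cast this

end Cfsg.Agent.H558.CP
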