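import Mathlib
import Cfsg.Agent.H697.ClassCount
import Cfsg.Agent.H698.Landau
import Cfsg.Agent.H558.CP.Basic

/-!
# Counting classes over an abelian normal subgroup, and the numerical inequalities
-/

set_option autoImplicit false

namespace Cfsg.Agent.H558.CP

open Subgroup

/-- Counting classes inside and outside of the centralizer of an abelian normal subgroup. -/
theorem count_normal {G : Type*} [Group G] [Finite G] (M : Subgroup G) [hMn : M.Normal]
    (hM : ∀ x ∈ M, ∀ y ∈ M, x * y = y * x) (hM1 : M ≠ ⊥) :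
    Nat.card (ConjClasses (G ⧸ centralizer (M : Set G))) + 1 ≤ Nat.card (ConjClasses G) ∧
    Nat.card (ConjClasses (G ⧸ centralizer (M : Set G))) * (centralizer (M : Set G)).index +
      (Nat.card M - 1) ≤ Nat.card (ConjClasses G) * (centralizer (M : Set G)).index := by
  classical
  have := Fintype.ofFinite G
  have := Fintype.ofFinite M
  have := Fintype.ofFinite (ConjClasses G)
  set C := centralizer (M : Set G) with hC
  have hMC : M ≤ C := fun x hx => mem_centralizer_iff.mpr (fun y hy => hM y hy x hx)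
  have := Fintype.ofFinite (ConjClasses (G ⧸ C))
  let f : M → ConjClasses G := fun a => ConjClasses.mk (a : G)
  let T : Finset (ConjClasses G) := Finset.univ.image f
  have hT1 : ConjClasses.mk (1 : G) ∈ T := Finset.mem_image.mpr ⟨1, Finset.mem_univ _, rfl⟩
  -- the classes in `M`
  have h1 : ∀ c ∈ T.erase (ConjClasses.mk (1 : G)),
      ((Finset.univ.erase (1 : M)).filter fun a : M => f a = c).card ≤ C.index := by
    intro c _
    rcases ((Finset.univ.erase (1 : M)).filter fun a : M => f a = c).eq_empty_or_nonempty with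
      h0 | ⟨a, ha⟩
    · rw [h0, Finset.card_empty]; exact Nat.zero_le _
    · have hfa : f a = c := (Finset.mem_filter.1 ha).2
      have h2 : ((Finset.univ.erase (1 : M)).filter fun b : M => f b = c).card ≤
          (ConjClasses.mk (a : G)).carrier.ncard := by
        rw [← Finset.card_image_of_injective _ (Subtype.val_injective (p := fun x => x ∈ M)),
          ← Set.ncard_coe_finset]
        apply Set.ncard_le_ncard
        · intro x hx
          simp only [Finset.coe_image, Set.mem_image, Finset.mem_coe, Finset.mem_filter] at hx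
          obtain ⟨b, ⟨-, hb⟩, rfl⟩ := hx
          rw [ConjClasses.mem_carrier_iff_mk_eq]
          exact hb.trans hfa.symm
        · exact Set.toFinite _
      refine h2.trans ?_
      rw [← H697.ClassCount.index_centralizer]
      apply Nat.le_of_dvd (Nat.pos_of_ne_zero Subgroup.index_ne_zero_of_finite)
      apply Subgroup.index_dvd_of_le
      intro b hb
      rw [Subgroup.mem_centralizer_singleton_iff]
      exact (mem_centralizer_iff.mp hb a a.2).symm
  have h2 := Finset.card_le_mul_card_image_of_maps_to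
    (s := (Finset.univ.erase (1 : M))) (t := T.erase (ConjClasses.mk (1 : G)))
    (f := f) (fun a ha => by
      rw [Finset.mem_erase]
      refine ⟨fun h => ?_, Finset.mem_image.mpr ⟨a, Finset.mem_univ _, rfl⟩⟩
      have h3 : IsConj (a : G) 1 := ConjClasses.mk_eq_mk_iff_isConj.mp h
      exact (Finset.mem_erase.mp ha).1 (Subtype.ext (isConj_one_left.mp h3))) C.index h1
  rw [Finset.card_erase_of_mem (Finset.mem_univ _), Finset.card_univ,
    ← Nat.card_eq_fintype_card, Finset.card_erase_of_mem hT1] at h2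
  -- the classes outside
  let π : ConjClasses G → ConjClasses (G ⧸ C) := ConjClasses.map (QuotientGroup.mk' C)
  have hπ : Function.Surjective π := ConjClasses.map_surjective (QuotientGroup.mk'_surjective C)
  have h3 : (Finset.univ.erase (ConjClasses.mk (1 : G ⧸ C))) ⊆ (Tᶜ).image π := by
    intro s hs
    obtain ⟨c, rfl⟩ := hπ s
    refine Finset.mem_image.mpr ⟨c, ?_, rfl⟩
    rw [Finset.mem_compl]
    intro hc
    obtain ⟨m, -, rfl⟩ := Finset.mem_image.mp hc
    apply (Finset.mem_erase.mp hs).1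
    change ConjClasses.mk (QuotientGroup.mk' C (m : G)) = ConjClasses.mk 1
    congr 1
    exact (QuotientGroup.eq_one_iff (m : G)).mpr (hMC m.2)
  have h4 := (Finset.card_le_card h3).trans Finset.card_image_le
  rw [Finset.card_erase_of_mem (Finset.mem_univ _), Finset.card_univ,
    ← Nat.card_eq_fintype_card, Finset.card_compl, ← Nat.card_eq_fintype_card] at h4
  have h5 : 1 ≤ T.card := Finset.card_pos.mpr ⟨_, hT1⟩
  have h6 : T.card ≤ Nat.card (ConjClasses G) := by
    rw [Nat.card_eq_fintype_card]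
    exact Finset.card_le_univ _
  have h7 : 1 < T.card := by
    obtain ⟨m, hm, hm1⟩ : ∃ m ∈ M, m ≠ 1 := by
      by_contra hcon
      push Not at hcon
      exact hM1 ((eq_bot_iff_forall M).mpr hcon)
    rw [Finset.one_lt_card]
    refine ⟨_, hT1, ConjClasses.mk m, Finset.mem_image.mpr ⟨⟨m, hm⟩, Finset.mem_univ _, rfl⟩, ?_⟩
    intro h
    exact hm1 (isConj_one_right.mp (ConjClasses.mk_eq_mk_iff_isConj.mp h))
  refine ⟨?_, ?_⟩
  · have h9 : Nat.card (ConjClasses (G ⧸ C)) + 1 ≤ Nat.card (ConjClasses G) := by omega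
    exact h9
  have h8 : Nat.card (ConjClasses (G ⧸ C)) + (T.card - 1) ≤ Nat.card (ConjClasses G) := by omega
  calc Nat.card (ConjClasses (G ⧸ C)) * C.index + (Nat.card M - 1)
      ≤ Nat.card (ConjClasses (G ⧸ C)) * C.index + C.index * (T.card - 1) :=
        Nat.add_le_add_left h2 _
    _ = (Nat.card (ConjClasses (G ⧸ C)) + (T.card - 1)) * C.index := by ring
    _ ≤ _ := Nat.mul_le_mul_right _ h8

theorem le_6 {G : Type*} [Group G] [Finite G] (h : Nat.card (ConjClasses G) ≤ 3) :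
    Nat.card G ≤ 6 := by
  refine H698.Landau.card_le_of_chk ?_
  generalize Nat.card (ConjClasses G) = k at h
  interval_cases k <;> decide +kernel

/-- from `h k ≥ h² c + N` -/
theorem sq_bound {k h c N : ℚ} (hh : 0 < h) (hc : 0 ≤ c) (hN : 0 ≤ N) (h1 : c * h * h + N ≤ k * h) :
    4 * c * N ≤ k ^ 2 := by
  have h2 : 0 ≤ (c * h * h - N) ^ 2 := sq_nonneg _
  have h3 : (c * h * h + N) ^ 2 ≤ (k * h) ^ 2 := by
    apply pow_le_pow_left₀ _ h1
    positivity
  have h4 : 4 * c * N * (h * h) ≤ k ^ 2 * (h * h) := by nlinarith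
  exact le_of_mul_le_mul_right h4 (by positivity)

theorem le_of_sq {a b : ℕ} (h : ((a : ℕ) : ℚ) ^ 2 ≤ ((b : ℕ) : ℚ) ^ 2) : a ≤ b := by
  have h1 : a ^ 2 ≤ b ^ 2 := by exact_mod_cast h
  exact (Nat.pow_le_pow_iff_left (by norm_num)).mp h1

/-- numerics, abelian case -/
theorem num_abel {p k h : ℕ} (hp : 2 ≤ p) (hh : 0 < h) (h1 : h * h + (p ^ 2 - 1) ≤ k * h) :
    49 * p ≤ 60 * k := by
  have hp1 : 1 ≤ p ^ 2 := Nat.one_le_pow _ _ (by omega)
  have h2 : (1 * h * h + ((p : ℚ) ^ 2 - 1) : ℚ) ≤ k * h := by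
    have : ((h * h + (p ^ 2 - 1) : ℕ) : ℚ) ≤ ((k * h : ℕ) : ℚ) := by exact_mod_cast h1
    push_cast [Nat.cast_sub hp1] at this
    linarith
  have hpQ : (2 : ℚ) ≤ p := by exact_mod_cast hp
  have h3 := sq_bound (by exact_mod_cast hh) (by norm_num) (by nlinarith) h2
  have h4 : ((49 * p : ℕ) : ℚ) ^ 2 ≤ ((60 * k : ℕ) : ℚ) ^ 2 := by
    push_cast
    nlinarith
  exact le_of_sq h4

/-- numerics, `|H| ≤ (11/2) k(H)` -/
theorem num_two {p k h kH : ℕ} (hp : 5 ≤ p) (hh : 0 < h) (hH : (h : ℚ) ≤ 11 / 2 * kH)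
    (h1 : kH * h + (p ^ 2 - 1) ≤ k * h) : 49 * p ≤ 60 * k := by
  have hp1 : 1 ≤ p ^ 2 := Nat.one_le_pow _ _ (by omega)
  have hh' : (0 : ℚ) < h := by exact_mod_cast hh
  have h2 : (2 / 11 * h * h + ((p : ℚ) ^ 2 - 1) : ℚ) ≤ k * h := by
    have : ((kH * h + (p ^ 2 - 1) : ℕ) : ℚ) ≤ ((k * h : ℕ) : ℚ) := by exact_mod_cast h1
    push_cast [Nat.cast_sub hp1] at this
    nlinarith
  have hpQ : (5 : ℚ) ≤ p := by exact_mod_cast hp
  have h3 := sq_bound hh' (by norm_num) (by nlinarith) h2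
  refine le_of_sq ?_
  push_cast
  nlinarith

/-- numerics, dimension at least 3 -/
theorem num_three {p k h kH a : ℕ} (hp : 11 ≤ p) (ha : 3 ≤ a) (hh : 0 < h)
    (hH : (h : ℚ) ≤ 599 / 100 * 11 ^ (a - 2) * kH) (h1 : kH * h + (p ^ a - 1) ≤ k * h) :
    49 * p ≤ 60 * k := by
  have hp1 : 1 ≤ p ^ a := Nat.one_le_pow _ _ (by omega)
  have hh' : (0 : ℚ) < h := by exact_mod_cast hh
  have hpQ : (11 : ℚ) ≤ p := by exact_mod_cast hp
  obtain ⟨m, rfl⟩ := Nat.exists_eq_add_of_le' ha
  have hm : m + 3 - 2 = m + 1 := by omega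
  rw [hm] at hH
  set c : ℚ := 100 / 599 * (1 / 11) ^ (m + 1) with hc
  have hc0 : 0 < c := by positivity
  have hcc : c * (599 / 100 * 11 ^ (m + 1)) = 1 := by
    have h2 : (1 / 11 : ℚ) ^ (m + 1) * 11 ^ (m + 1) = 1 := by
      rw [← mul_pow]; norm_num
    calc c * (599 / 100 * 11 ^ (m + 1)) = (1 / 11 : ℚ) ^ (m + 1) * 11 ^ (m + 1) := by
          rw [hc]; ring
      _ = 1 := h2
  have h4 : c * h ≤ kH := by
    calc c * h ≤ c * (599 / 100 * 11 ^ (m + 1) * kH) := mul_le_mul_of_nonneg_left hH hc0.le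
      _ = (c * (599 / 100 * 11 ^ (m + 1))) * kH := by ring
      _ = kH := by rw [hcc, one_mul]
  have h2 : (c * h * h + ((p : ℚ) ^ (m + 3) - 1) : ℚ) ≤ k * h := by
    have : ((kH * h + (p ^ (m + 3) - 1) : ℕ) : ℚ) ≤ ((k * h : ℕ) : ℚ) := by exact_mod_cast h1
    push_cast [Nat.cast_sub hp1] at this
    have h5 := mul_le_mul_of_nonneg_right h4 hh'.le
    linarith
  have hpa : (1331 : ℚ) ≤ (p : ℚ) ^ (m + 3) := by
    calc (1331 : ℚ) = 11 ^ 3 := by norm_num
      _ ≤ 11 ^ (m + 3) := pow_le_pow_right₀ (by norm_num) (by omega)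
      _ ≤ (p : ℚ) ^ (m + 3) := pow_le_pow_left₀ (by norm_num) hpQ _
  have h3 := sq_bound hh' hc0.le (by linarith) h2
  refine le_of_sq ?_
  push_cast
  -- `c p^a ≥ (100/599) p²`
  have h6 : 100 / 599 * (p : ℚ) ^ 2 ≤ c * (p : ℚ) ^ (m + 3) := by
    have h7 : (1 : ℚ) ≤ (1 / 11) ^ (m + 1) * (p : ℚ) ^ (m + 1) := by
      rw [← mul_pow]
      apply one_le_pow₀
      linarith
    calc 100 / 599 * (p : ℚ) ^ 2 = 100 / 599 * (p : ℚ) ^ 2 * 1 := by ring
      _ ≤ 100 / 599 * (p : ℚ) ^ 2 * ((1 / 11) ^ (m + 1) * (p : ℚ) ^ (m + 1)) :=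
          mul_le_mul_of_nonneg_left h7 (by positivity)
      _ = c * (p : ℚ) ^ (m + 3) := by rw [hc]; ring
  have h8 : c * (1330 / 1331 * (p : ℚ) ^ (m + 3)) ≤ c * ((p : ℚ) ^ (m + 3) - 1) :=
    mul_le_mul_of_nonneg_left (by linarith) hc0.le
  nlinarith

/-- numerics, the exceptional case `|H| = 24 m`, `k(H) ≥ 4 m`, `m d = p - 1`. -/
theorem num_exc {p k h kH m d : ℕ} (hp : p.Prime) (hh : h = 24 * m) (hkH : 4 * m ≤ kH)
    (hmd : m * d = p - 1) (h1 : kH * h + (p ^ 2 - 1) ≤ k * h) : 49 * p ≤ 60 * k := by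
  by_contra hcon
  push Not at hcon
  have hp2 := hp.two_le
  have hp1 : p = m * d + 1 := by omega
  have hm0 : 0 < m := by
    rcases Nat.eq_zero_or_pos m with h | h
    · rw [h, zero_mul] at hmd
      omega
    · exact h
  have hk : (60 * k : ℤ) ≤ 49 * p - 1 := by exact_mod_cast (by omega : (60 * k : ℤ) ≤ 49 * p - 1)
  have h2 : (96 * m * m + ((p : ℤ) ^ 2 - 1) : ℤ) ≤ k * (24 * m) := by
    have h3 : 1 ≤ p ^ 2 := Nat.one_le_pow _ _ (by omega)
    have h4 : ((kH * h + (p ^ 2 - 1) : ℕ) : ℤ) ≤ ((k * h : ℕ) : ℤ) := by exact_mod_cast h1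
    push_cast [Nat.cast_sub h3] at h4
    rw [hh] at h4
    push_cast at h4
    have h5 : (4 * m : ℤ) ≤ kH := by exact_mod_cast hkH
    have h6 : (0 : ℤ) ≤ m := by positivity
    nlinarith
  have hmZ : (0 : ℤ) < m := by exact_mod_cast hm0
  have h3 : (60 : ℤ) * (96 * m * m + ((p : ℤ) ^ 2 - 1)) ≤ (49 * p - 1) * (24 * m) := by
    nlinarith
  have hpZ : (p : ℤ) = m * d + 1 := by exact_mod_cast hp1
  rw [hpZ] at h3
  have h4 : (m : ℤ) * (m * (5 * d ^ 2 - 98 * d + 480) + 10 * d - 96) ≤ 0 := by nlinarith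
  have h5 : (m * (5 * d ^ 2 - 98 * d + 480) + 10 * d - 96 : ℤ) ≤ 0 := by
    by_contra h
    push Not at h
    have := mul_pos hmZ h
    omega
  have h6 : d ≤ 9 := by
    by_contra h
    push Not at h
    have h7 : (10 : ℤ) ≤ d := by exact_mod_cast h
    have h8 : (0 : ℤ) ≤ 5 * d ^ 2 - 98 * d + 480 := by nlinarith
    have h9 := mul_nonneg hmZ.le h8
    nlinarith
  have h7 : m ≤ 2 := by
    by_contra h
    push Not at h
    have h8 : (3 : ℤ) ≤ m := by exact_mod_cast h
    interval_cases d <;> norm_num at h5 <;> omega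
  have h8 : (m = 2 ∧ d = 9) ∨ (m = 1 ∧ d = 9) ∨ (m = 1 ∧ d = 8) := by
    interval_cases m <;> interval_cases d <;> first | (exfalso; revert h5; norm_num; done) | simp
  rcases h8 with ⟨rfl, rfl⟩ | ⟨rfl, rfl⟩ | ⟨rfl, rfl⟩
  · have : p = 19 := by omega
    subst this
    norm_num at *
    omega
  · have : p = 10 := by omega
    subst this
    norm_num at hp
  · have : p = 9 := by omega
    subst this
    norm_num at hp

end Cfsg.Agent.H558.CP
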