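import Mathlib
import Cfsg.Agent.H718.ConjRep
import Cfsg.Agent.H558.CP.Fp
import Cfsg.Agent.H558.CP.Count

/-!
# The action of a solvable group on a minimal normal subgroup
-/

set_option autoImplicit false

namespace Cfsg.Agent.H558.CP

open Module Subgroup

universe u

theorem cb_of_minimal {G : Type u} [Group G] [Finite G] [Group.IsSolvable G] (p : ℕ)
    [hp : Fact p.Prime] (V : Subgroup G) [hVn : V.Normal]
    (hab : ∀ a ∈ V, ∀ b ∈ V, a * b = b * a) (hexp : ∀ u ∈ V, u ^ p = 1) (hV : V ≠ ⊥)
    (hmin : ∀ M : Subgroup G, M.Normal → M ≤ V → M = ⊥ ∨ M = V) :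
    ∃ a, 1 ≤ a ∧ Nat.card V = p ^ a ∧ CB (G ⧸ centralizer (V : Set G)) (BB a) ∧
      (a = 2 → CB (G ⧸ centralizer (V : Set G)) (11 / 2) ∨
        ∃ m d : ℕ, Nat.card (G ⧸ centralizer (V : Set G)) = 24 * m ∧
          4 * m ≤ Nat.card (ConjClasses (G ⧸ centralizer (V : Set G))) ∧ m * d = p - 1) := by
  classical
  obtain ⟨E, i1, i2, i3, e, ρ, he, hρ⟩ := H718.exists_conjRep p ⊤ V hab hexp
    (fun h _ u hu => hVn.conj_mem u hu h)
  let τ : G →* (⊤ : Subgroup G) := (Subgroup.topEquiv.symm : G ≃* (⊤ : Subgroup G)).toMonoidHom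
  let ρ' : Representation (ZMod p) G E := ρ.comp τ
  have hρ' : ∀ (g : G) (s : E), ((e (ρ' g s) : V) : G) = g * e s * g⁻¹ := fun g s => hρ (τ g) s
  have hker : ρ'.ker = centralizer (V : Set G) := by
    ext g
    rw [MonoidHom.mem_ker, mem_centralizer_iff]
    constructor
    · intro h v hv
      have h1 := hρ' g (e.symm ⟨v, hv⟩)
      rw [h, Module.End.one_apply, Equiv.apply_symm_apply] at h1
      have h2 : v = g * v * g⁻¹ := h1
      calc v * g = (g * v * g⁻¹) * g := by rw [← h2]
        _ = g * v := by group
    · intro h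
      ext s
      apply e.injective
      apply Subtype.ext
      rw [hρ', ← h _ (e s).2]
      simp
  let σ : Representation (ZMod p) (G ⧸ centralizer (V : Set G)) E :=
    QuotientGroup.lift (centralizer (V : Set G)) ρ' (fun x hx => by
      rw [← hker] at hx
      exact hx)
  have hσ : ∀ g : G, σ (QuotientGroup.mk g) = ρ' g := fun g => rfl
  have hσinj : Function.Injective σ := by
    rw [injective_iff_map_eq_one]
    intro x hx
    obtain ⟨g, rfl⟩ := QuotientGroup.mk_surjective x
    rw [QuotientGroup.eq_one_iff, ← hker]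
    exact hx
  have hirr : Irr σ := by
    refine ⟨?_, fun U hU => ?_⟩
    · have : Nontrivial V := (Subgroup.nontrivial_iff_ne_bot V).mpr hV
      exact e.nontrivial
    · let M : Subgroup G :=
        { carrier := {x | ∃ s ∈ U, ((e s : V) : G) = x}
          one_mem' := by
            refine ⟨0, U.zero_mem, ?_⟩
            have h1 := he 0 0
            rw [add_zero] at h1
            have h2 : e 0 = 1 := by
              have h3 : e 0 * 1 = e 0 * e 0 := by rw [mul_one]; exact h1
              exact (mul_left_cancel h3).symm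
            rw [h2]
            rfl
          mul_mem' := by
            rintro _ _ ⟨s, hs, rfl⟩ ⟨t, ht, rfl⟩
            exact ⟨s + t, U.add_mem hs ht, by rw [he]; rfl⟩
          inv_mem' := by
            rintro _ ⟨s, hs, rfl⟩
            refine ⟨-s, U.neg_mem hs, ?_⟩
            have h1 := he (-s) s
            rw [neg_add_cancel] at h1
            have h0 := he 0 0
            rw [add_zero] at h0
            have h2 : e 0 = 1 := by
              have h3 : e 0 * 1 = e 0 * e 0 := by rw [mul_one]; exact h0
              exact (mul_left_cancel h3).symm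
            rw [h2] at h1
            have h3 : e (-s) = (e s)⁻¹ := eq_inv_of_mul_eq_one_left h1.symm
            rw [h3]
            rfl }
      have hMn : M.Normal := ⟨by
        rintro _ ⟨s, hs, rfl⟩ g
        refine ⟨σ (QuotientGroup.mk g) s, hU _ s hs, ?_⟩
        rw [hσ, hρ']⟩
      have hMV : M ≤ V := by
        rintro _ ⟨s, hs, rfl⟩
        exact (e s).2
      rcases hmin M hMn hMV with h | h
      · left
        rw [Submodule.eq_bot_iff]
        intro s hs
        have h1 : ((e s : V) : G) ∈ M := ⟨s, hs, rfl⟩
        rw [h, Subgroup.mem_bot] at h1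
        have h2 : e s = 1 := Subtype.ext h1
        have h0 := he s s
        rw [h2, one_mul] at h0
        have h3 : e (s + s) = e s := by rw [h0, h2]
        have h4 := e.injective h3
        simpa using h4
      · right
        rw [eq_top_iff]
        intro s _
        have h1 : ((e s : V) : G) ∈ M := by rw [h]; exact (e s).2
        obtain ⟨t, ht, h2⟩ := h1
        have h3 : t = s := e.injective (Subtype.ext h2)
        rwa [← h3]
  have hfd : FiniteDimensional (ZMod p) E := inferInstance
  obtain ⟨h1, h2⟩ := over_Fp p σ hσinj hirr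
  refine ⟨finrank (ZMod p) E, ?_, ?_, h1, h2⟩
  · have := hirr.1
    exact Module.finrank_pos
  · rw [← Nat.card_congr e, Module.natCard_eq_pow_finrank (K := ZMod p), Nat.card_zmod]

end Cfsg.Agent.H558.CP
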