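import Mathlib

/-!
# Weight spaces of an abelian normal subgroup of a finite linear group

A version of `H553/Weights.lean` over an arbitrary algebraically closed field.
-/

set_option autoImplicit false

namespace Cfsg.Agent.H558.CP

open Module

universe u v w

/-- An endomorphism of finite order with only one eigenvalue is a scalar. -/
theorem scalar_of_maxGen {K : Type*} [Field K] {V : Type*} [AddCommGroup V] [Module K V]
    [FiniteDimensional K V]
    (f : Module.End K V) {n : ℕ} (hn : (n : K) ≠ 0) (hf : f ^ n = 1) (c : K)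
    (h : f.maxGenEigenspace c = ⊤) : ∀ v, f v = c • v := by
  have hss : f.IsSemisimple := by
    refine Module.End.isSemisimple_of_squarefree_aeval_eq_zero
      (p := Polynomial.X ^ n - Polynomial.C 1) ?_ ?_
    · exact (Polynomial.separable_X_pow_sub_C (1 : K) hn
        one_ne_zero).squarefree
    · simp [hf]
  rw [hss.isFinitelySemisimple.maxGenEigenspace_eq_eigenspace] at h
  intro v
  have hv : v ∈ f.eigenspace c := by rw [h]; trivial
  exact Module.End.mem_eigenspace_iff.mp hv

variable {K : Type w} [Field K] {G : Type u} [Group G] {V : Type v} [AddCommGroup V] [Module K V]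

/-- The generalized weight space. -/
def wt (ρ : Representation K G V) (A : Subgroup G) (χ : A → K) : Submodule K V :=
  ⨅ a : A, Module.End.maxGenEigenspace (ρ a) (χ a)

theorem mem_wt (ρ : Representation K G V) (A : Subgroup G) (χ : A → K) (v : V) :
    v ∈ wt ρ A χ ↔ ∀ a : A, ∃ k : ℕ, ((ρ a - χ a • (1 : Module.End K V)) ^ k) v = 0 := by
  rw [wt, Submodule.mem_iInf]
  exact forall_congr' (fun a => Module.End.mem_maxGenEigenspace _ _ _)

/-- Conjugation of weights. -/
def cj {A : Subgroup G} (hA : A.Normal) (g : G) (χ : A → K) : A → K :=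
  fun a => χ ⟨g⁻¹ * a * g, by simpa using hA.conj_mem a a.2 g⁻¹⟩

theorem cj_one {A : Subgroup G} (hA : A.Normal) (χ : A → K) : cj hA 1 χ = χ := by
  funext a
  unfold cj
  congr 1
  apply Subtype.ext
  simp

theorem cj_mul {A : Subgroup G} (hA : A.Normal) (g h : G) (χ : A → K) :
    cj hA (g * h) χ = cj hA g (cj hA h χ) := by
  funext a
  unfold cj
  congr 1
  apply Subtype.ext
  simp [mul_assoc]

theorem map_mem_wt (ρ : Representation K G V) {A : Subgroup G} (hA : A.Normal) (g : G)
    (χ : A → K) {v : V} (hv : v ∈ wt ρ A χ) : ρ g v ∈ wt ρ A (cj hA g χ) := by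
  rw [mem_wt] at hv ⊢
  intro a
  obtain ⟨k, hk⟩ := hv ⟨g⁻¹ * a * g, by simpa using hA.conj_mem a a.2 g⁻¹⟩
  refine ⟨k, ?_⟩
  have h1 : ∀ w : V, (ρ a - cj hA g χ a • (1 : Module.End K V)) (ρ g w) =
      ρ g ((ρ (g⁻¹ * a * g) - cj hA g χ a • (1 : Module.End K V)) w) := by
    intro w
    have h2 : ρ a (ρ g w) = ρ g (ρ (g⁻¹ * a * g) w) := by
      rw [← Module.End.mul_apply, ← Module.End.mul_apply, ← map_mul, ← map_mul]
      congr 2
      group
    simp only [LinearMap.sub_apply, LinearMap.smul_apply, Module.End.one_apply, h2, map_sub,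
      map_smul]
  have h3 : ∀ (k : ℕ) (w : V), ((ρ a - cj hA g χ a • (1 : Module.End K V)) ^ k) (ρ g w) =
      ρ g (((ρ (g⁻¹ * a * g) - cj hA g χ a • (1 : Module.End K V)) ^ k) w) := by
    intro k
    induction k with
    | zero => intro w; simp
    | succ k ih =>
      intro w
      rw [pow_succ, pow_succ, Module.End.mul_apply, Module.End.mul_apply, h1, ih]
  rw [h3 k v]
  have h4 : cj hA g χ a = χ ⟨g⁻¹ * a * g, by simpa using hA.conj_mem a a.2 g⁻¹⟩ := rfl
  rw [h4]
  have h5 : ((ρ (g⁻¹ * a * g) - χ ⟨g⁻¹ * a * g, by simpa using hA.conj_mem a a.2 g⁻¹⟩ •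
      (1 : Module.End K V)) ^ k) v = 0 := hk
  rw [h5, map_zero]

/-- the weights that occur -/
def Om (ρ : Representation K G V) (A : Subgroup G) : Type (max u w) := {χ : A → K // wt ρ A χ ≠ ⊥}

theorem cj_ne_bot (ρ : Representation K G V) {A : Subgroup G} (hA : A.Normal)
    (hρ : Function.Injective ρ) (g : G) {χ : A → K} (hχ : wt ρ A χ ≠ ⊥) :
    wt ρ A (cj hA g χ) ≠ ⊥ := by
  intro h
  apply hχ
  rw [Submodule.eq_bot_iff]
  intro v hv
  have h1 := map_mem_wt ρ hA g χ hv
  rw [h, Submodule.mem_bot] at h1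
  have h2 : ρ g⁻¹ (ρ g v) = v := by
    rw [← Module.End.mul_apply, ← map_mul, inv_mul_cancel, map_one, Module.End.one_apply]
  rw [← h2, h1, map_zero]

/-- the action of `G` on the weights -/
def act (ρ : Representation K G V) {A : Subgroup G} (hA : A.Normal)
    (hρ : Function.Injective ρ) : G →* Equiv.Perm (Om ρ A) where
  toFun g :=
    { toFun := fun χ => ⟨cj hA g χ.1, cj_ne_bot ρ hA hρ g χ.2⟩
      invFun := fun χ => ⟨cj hA g⁻¹ χ.1, cj_ne_bot ρ hA hρ g⁻¹ χ.2⟩
      left_inv := fun χ => Subtype.ext (by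
        change cj hA g⁻¹ (cj hA g χ.1) = χ.1
        rw [← cj_mul, inv_mul_cancel, cj_one])
      right_inv := fun χ => Subtype.ext (by
        change cj hA g (cj hA g⁻¹ χ.1) = χ.1
        rw [← cj_mul, mul_inv_cancel, cj_one]) }
  map_one' := by
    apply Equiv.ext
    intro χ
    exact Subtype.ext (cj_one hA χ.1)
  map_mul' g h := by
    apply Equiv.ext
    intro χ
    exact Subtype.ext (cj_mul hA g h χ.1)

theorem mapsTo_of_ker (ρ : Representation K G V) {A : Subgroup G} (hA : A.Normal)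
    (hρ : Function.Injective ρ) (k : (act ρ hA hρ).ker) (χ : Om ρ A) :
    ∀ v ∈ wt ρ A χ.1, ρ k v ∈ wt ρ A χ.1 := by
  intro v hv
  have h1 := map_mem_wt ρ hA k χ.1 hv
  have h2 : act ρ hA hρ k = 1 := k.2
  have h3 : cj hA k χ.1 = χ.1 := congrArg (fun e : Equiv.Perm (Om ρ A) => (e χ).1) h2
  rwa [h3] at h1

/-- the representation of the kernel on a weight space -/
def res (ρ : Representation K G V) {A : Subgroup G} (hA : A.Normal)
    (hρ : Function.Injective ρ) (χ : Om ρ A) :
    Representation K (act ρ hA hρ).ker (wt ρ A χ.1) where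
  toFun k := (ρ k).restrict (mapsTo_of_ker ρ hA hρ k χ)
  map_one' := by
    apply LinearMap.ext
    intro v
    apply Subtype.ext
    simp [LinearMap.restrict_apply]
  map_mul' k l := by
    apply LinearMap.ext
    intro v
    apply Subtype.ext
    simp [LinearMap.restrict_apply]

theorem res_apply (ρ : Representation K G V) {A : Subgroup G} (hA : A.Normal)
    (hρ : Function.Injective ρ) (χ : Om ρ A) (k : (act ρ hA hρ).ker) (v : wt ρ A χ.1) :
    ((res ρ hA hρ χ k v : wt ρ A χ.1) : V) = ρ k v := rfl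

variable [FiniteDimensional K V]

theorem iSup_wt [IsAlgClosed K] (ρ : Representation K G V) {A : Subgroup G}
    (hc : ∀ a ∈ A, ∀ b ∈ A, a * b = b * a) : ⨆ χ : A → K, wt ρ A χ = ⊤ := by
  refine Module.End.iSup_iInf_maxGenEigenspace_eq_top_of_iSup_maxGenEigenspace_eq_top_of_commute
    (fun a : A => (ρ a : Module.End K V)) ?_ (fun a => Module.End.iSup_maxGenEigenspace_eq_top _)
  intro a b _
  change ρ a * ρ b = ρ b * ρ a
  rw [← map_mul, ← map_mul, hc a a.2 b b.2]

theorem indep_wt (ρ : Representation K G V) {A : Subgroup G}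
    (hc : ∀ a ∈ A, ∀ b ∈ A, a * b = b * a) : iSupIndep fun χ : A → K => wt ρ A χ := by
  refine Module.End.independent_iInf_maxGenEigenspace_of_forall_mapsTo
    (fun a : A => (ρ a : Module.End K V)) ?_
  intro a b μ
  refine Module.End.mapsTo_maxGenEigenspace_of_comm ?_ μ
  change ρ b * ρ a = ρ a * ρ b
  rw [← map_mul, ← map_mul, hc a a.2 b b.2]

theorem finite_Om (ρ : Representation K G V) {A : Subgroup G}
    (hc : ∀ a ∈ A, ∀ b ∈ A, a * b = b * a) : Finite (Om ρ A) :=
  (WellFoundedGT.finite_ne_bot_of_iSupIndep (indep_wt ρ hc)).to_subtype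

theorem iSup_Om [IsAlgClosed K] (ρ : Representation K G V) {A : Subgroup G}
    (hc : ∀ a ∈ A, ∀ b ∈ A, a * b = b * a) : ⨆ χ : Om ρ A, wt ρ A χ.1 = ⊤ := by
  rw [eq_top_iff, ← iSup_wt ρ hc]
  refine iSup_le (fun χ => ?_)
  by_cases h : wt ρ A χ = ⊥
  · rw [h]; exact bot_le
  · exact le_iSup (fun χ : Om ρ A => wt ρ A χ.1) ⟨χ, h⟩

theorem indep_Om (ρ : Representation K G V) {A : Subgroup G}
    (hc : ∀ a ∈ A, ∀ b ∈ A, a * b = b * a) : iSupIndep fun χ : Om ρ A => wt ρ A χ.1 :=
  (indep_wt ρ hc).comp Subtype.val_injective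

theorem sum_finrank [IsAlgClosed K] (ρ : Representation K G V) {A : Subgroup G}
    (hc : ∀ a ∈ A, ∀ b ∈ A, a * b = b * a) [Fintype (Om ρ A)] :
    ∑ χ : Om ρ A, finrank K (wt ρ A χ.1) = finrank K V := by
  classical
  have h := DirectSum.isInternal_submodule_of_iSupIndep_of_iSup_eq_top (indep_Om ρ hc)
    (iSup_Om ρ hc)
  rw [← Module.finrank_directSum]
  exact LinearEquiv.finrank_eq (LinearEquiv.ofBijective
    (DirectSum.coeLinearMap (fun χ : Om ρ A => wt ρ A χ.1)) h)


end Cfsg.Agent.H558.CP
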