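import Mathlib
import Cfsg.Agent.H558.CP.Basic
import Cfsg.Agent.H558.CP.Weights
import Cfsg.Agent.H489.DixonPerm

/-!
# The imprimitive step

`kerIndex`: `CB` for an irreducible linear group with a non-scalar abelian normal subgroup.
-/

set_option autoImplicit false

namespace Cfsg.Agent.H558.CP

open Module Subgroup

universe u v w

variable {K : Type w} [Field K] {G : Type u} [Group G] {V : Type v} [AddCommGroup V] [Module K V]

/-- irreducibility -/
def Irr (ρ : Representation K G V) : Prop :=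
  Nontrivial V ∧ ∀ U : Submodule K V, (∀ g, ∀ u ∈ U, ρ g u ∈ U) → U = ⊥ ∨ U = ⊤

/-- the stabilizer of a weight -/
def St (ρ : Representation K G V) {A : Subgroup G} (hA : A.Normal) (hρ : Function.Injective ρ)
    (χ : Om ρ A) : Subgroup G where
  carrier := {g | act ρ hA hρ g χ = χ}
  one_mem' := by simp
  mul_mem' := by
    intro a b ha hb
    change act ρ hA hρ (a * b) χ = χ
    rw [map_mul, Equiv.Perm.mul_apply]
    rw [show act ρ hA hρ b χ = χ from hb]
    exact ha
  inv_mem' := by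
    intro a ha
    change act ρ hA hρ a⁻¹ χ = χ
    rw [map_inv, Equiv.Perm.inv_eq_iff_eq]
    exact (show act ρ hA hρ a χ = χ from ha).symm

theorem mem_St (ρ : Representation K G V) {A : Subgroup G} (hA : A.Normal)
    (hρ : Function.Injective ρ) (χ : Om ρ A) (g : G) :
    g ∈ St ρ hA hρ χ ↔ act ρ hA hρ g χ = χ := Iff.rfl

theorem map_mem (ρ : Representation K G V) {A : Subgroup G} (hA : A.Normal)
    (hρ : Function.Injective ρ) (χ : Om ρ A) (g : G) {v : V} (hv : v ∈ wt ρ A χ.1) :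
    ρ g v ∈ wt ρ A (act ρ hA hρ g χ).1 := map_mem_wt ρ hA g χ.1 hv

theorem mapsTo_St (ρ : Representation K G V) {A : Subgroup G} (hA : A.Normal)
    (hρ : Function.Injective ρ) (χ : Om ρ A) (g : St ρ hA hρ χ) :
    ∀ v ∈ wt ρ A χ.1, ρ g v ∈ wt ρ A χ.1 := by
  intro v hv
  have h1 := map_mem ρ hA hρ χ g hv
  rwa [(mem_St ρ hA hρ χ g).mp g.2] at h1

/-- the representation of the stabilizer on the weight space -/
def resS (ρ : Representation K G V) {A : Subgroup G} (hA : A.Normal)
    (hρ : Function.Injective ρ) (χ : Om ρ A) :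
    Representation K (St ρ hA hρ χ) (wt ρ A χ.1) where
  toFun k := (ρ k).restrict (mapsTo_St ρ hA hρ χ k)
  map_one' := by
    apply LinearMap.ext
    intro v
    apply Subtype.ext
    simp [LinearMap.restrict_apply]
  map_mul' k l := by
    apply LinearMap.ext
    intro v
    apply Subtype.ext
    simp [LinearMap.restrict_apply]

theorem resS_apply (ρ : Representation K G V) {A : Subgroup G} (hA : A.Normal)
    (hρ : Function.Injective ρ) (χ : Om ρ A) (k : St ρ hA hρ χ) (v : wt ρ A χ.1) :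
    ((resS ρ hA hρ χ k v : wt ρ A χ.1) : V) = ρ k v := rfl

theorem irr_resS [FiniteDimensional K V] (ρ : Representation K G V) {A : Subgroup G}
    (hA : A.Normal) (hρ : Function.Injective ρ) (hc : ∀ a ∈ A, ∀ b ∈ A, a * b = b * a)
    (hirr : Irr ρ) (χ : Om ρ A) : Irr (resS ρ hA hρ χ) := by
  refine ⟨(Submodule.nontrivial_iff_ne_bot).mpr χ.2, fun U hU => ?_⟩
  set U' : Submodule K V := U.map (wt ρ A χ.1).subtype with hU'
  have hU'le : U' ≤ wt ρ A χ.1 := Submodule.map_subtype_le _ _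
  set W : Submodule K V := ⨆ g : G, U'.map (ρ g) with hW
  have hWinv : ∀ g, ∀ u ∈ W, ρ g u ∈ W := by
    intro g u hu
    have h1 : W.map (ρ g) ≤ W := by
      rw [hW, Submodule.map_iSup]
      refine iSup_le (fun h => ?_)
      rw [← Submodule.map_comp]
      have h2 : (ρ g).comp (ρ h) = ρ (g * h) := by rw [map_mul]; rfl
      rw [h2]
      exact le_iSup (fun g : G => U'.map (ρ g)) (g * h)
    exact h1 (Submodule.mem_map_of_mem hu)
  rcases hirr.2 W hWinv with h | h
  · left
    rw [Submodule.eq_bot_iff]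
    intro x hx
    have h2 : (x : V) ∈ U'.map (ρ 1) := ⟨x, Submodule.mem_map_of_mem hx, by simp⟩
    have h3 : (x : V) ∈ W := le_iSup (fun g : G => U'.map (ρ g)) 1 h2
    rw [h, Submodule.mem_bot] at h3
    exact Subtype.ext h3
  · right
    rw [eq_top_iff]
    intro v _
    -- `V = U' ⊔ W2`
    set W2 : Submodule K V := ⨆ (χ' : Om ρ A) (_ : χ' ≠ χ), wt ρ A χ'.1 with hW2
    have h1 : W ≤ U' ⊔ W2 := by
      rw [hW]
      refine iSup_le (fun g => ?_)
      by_cases hg : g ∈ St ρ hA hρ χ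
      · refine le_trans ?_ le_sup_left
        rintro _ ⟨_, ⟨u, hu, rfl⟩, rfl⟩
        exact ⟨resS ρ hA hρ χ ⟨g, hg⟩ u, hU ⟨g, hg⟩ u hu, rfl⟩
      · refine le_trans ?_ le_sup_right
        rintro _ ⟨u, hu, rfl⟩
        have h2 := map_mem ρ hA hρ χ g (hU'le hu)
        exact (le_iSup₂ (f := fun (χ' : Om ρ A) (_ : χ' ≠ χ) => wt ρ A χ'.1) _ hg) h2
    have h2 : (v : V) ∈ U' ⊔ W2 := h1 (by rw [h]; trivial)
    obtain ⟨u, hu, w, hw, huw⟩ := Submodule.mem_sup.mp h2
    have h3 : w ∈ wt ρ A χ.1 := by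
      have h4 : w = v - u := by rw [← huw]; abel
      rw [h4]
      exact sub_mem v.2 (hU'le hu)
    have h4 := (indep_Om ρ hc) χ
    have h5 : w = 0 := by
      have h6 := (Submodule.disjoint_def.mp h4) w h3 hw
      exact h6
    rw [h5, add_zero] at huw
    obtain ⟨u', hu', hu''⟩ := hu
    have : v = u' := Subtype.ext (by rw [← huw]; exact hu''.symm)
    rw [this]
    exact hu'


/-- the quotient of the stabilizer acting faithfully -/
abbrev Q (ρ : Representation K G V) {A : Subgroup G} (hA : A.Normal)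
    (hρ : Function.Injective ρ) (χ : Om ρ A) : Type u :=
  St ρ hA hρ χ ⧸ (resS ρ hA hρ χ).ker

/-- its representation -/
def repQ (ρ : Representation K G V) {A : Subgroup G} (hA : A.Normal)
    (hρ : Function.Injective ρ) (χ : Om ρ A) :
    Representation K (Q ρ hA hρ χ) (wt ρ A χ.1) :=
  QuotientGroup.lift (resS ρ hA hρ χ).ker (resS ρ hA hρ χ) le_rfl

theorem repQ_inj (ρ : Representation K G V) {A : Subgroup G} (hA : A.Normal)
    (hρ : Function.Injective ρ) (χ : Om ρ A) : Function.Injective (repQ ρ hA hρ χ) := by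
  rw [injective_iff_map_eq_one]
  intro x hx
  obtain ⟨k, rfl⟩ := QuotientGroup.mk_surjective x
  rw [QuotientGroup.eq_one_iff]
  exact hx

theorem irr_repQ [FiniteDimensional K V] (ρ : Representation K G V) {A : Subgroup G}
    (hA : A.Normal) (hρ : Function.Injective ρ) (hc : ∀ a ∈ A, ∀ b ∈ A, a * b = b * a)
    (hirr : Irr ρ) (χ : Om ρ A) : Irr (repQ ρ hA hρ χ) := by
  obtain ⟨h1, h2⟩ := irr_resS ρ hA hρ hc hirr χ
  refine ⟨h1, fun U hU => h2 U (fun g u hu => ?_)⟩
  exact hU (QuotientGroup.mk g) u hu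

/-- **The imprimitive step.** -/
theorem cb_impr [IsAlgClosed K] [Finite G] [FiniteDimensional K V] (ρ : Representation K G V)
    {A : Subgroup G} (hA : A.Normal) (hρ : Function.Injective ρ)
    (hc : ∀ a ∈ A, ∀ b ∈ A, a * b = b * a) [Fintype (Om ρ A)] (b : Om ρ A → ℚ)
    (hb0 : ∀ χ, 0 ≤ b χ) (hb : ∀ χ, CB (Q ρ hA hρ χ) (b χ)) :
    CB G ((∏ χ, b χ) * (Nat.card (act ρ hA hρ).range : ℚ) ^ 2) := by
  classical
  set N := (act ρ hA hρ).ker with hN
  have hNle : ∀ (χ : Om ρ A) (k : N), (k : G) ∈ St ρ hA hρ χ := fun χ k => by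
    rw [mem_St, show act ρ hA hρ k = 1 from k.2]
    rfl
  let f : N →* ∀ χ, Q ρ hA hρ χ :=
    MonoidHom.mk' (fun k χ => QuotientGroup.mk (⟨k, hNle χ k⟩ : St ρ hA hρ χ)) (by
      intro k l
      funext χ
      rfl)
  have hf : Function.Injective f := by
    rw [injective_iff_map_eq_one]
    intro k hk
    apply Subtype.ext
    apply hρ
    rw [Subgroup.coe_one, map_one]
    apply LinearMap.ext
    intro v
    have hv : v ∈ ⨆ χ : Om ρ A, wt ρ A χ.1 := by rw [iSup_Om ρ hc]; trivial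
    induction hv using Submodule.iSup_induction' with
    | mem χ w hw =>
      have h1 : (QuotientGroup.mk (⟨k, hNle χ k⟩ : St ρ hA hρ χ) : Q ρ hA hρ χ) = 1 :=
        congrFun hk χ
      have h2 := (QuotientGroup.eq_one_iff _).mp h1
      have h3 : resS ρ hA hρ χ ⟨k, hNle χ k⟩ = 1 := h2
      have h4 := congrArg (fun f : wt ρ A χ.1 →ₗ[K] wt ρ A χ.1 => ((f ⟨w, hw⟩ : _) : V)) h3
      exact h4
    | zero => simp
    | add x y _ _ hx hy => rw [map_add, hx, hy, map_add]
  have h1 := CB.pi (fun χ => Q ρ hA hρ χ) b hb0 hb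
  have h2 := h1.of_injective (Finset.prod_nonneg (fun χ _ => hb0 χ)) f hf
  have h3 := CB.of_subgroup N h2 (Finset.prod_nonneg (fun χ _ => hb0 χ))
  rwa [hN, Subgroup.index_ker] at h3

end Cfsg.Agent.H558.CP
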