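import Mathlib

/-!
# Numerical lemmas for the bound `BB`
-/

set_option autoImplicit false

namespace Cfsg.Agent.H558.CP

/-- the bound for `|G| / k(G)` in dimension `n` -/
def BB : ℕ → ℚ
  | 0 => 1
  | 1 => 1
  | 2 => 6
  | n + 3 => 599 / 100 * 11 ^ (n + 1)

theorem BB_three_le {n : ℕ} (hn : 3 ≤ n) : BB n = 599 / 100 * 11 ^ (n - 2) := by
  obtain ⟨m, rfl⟩ := Nat.exists_eq_add_of_le' hn
  rfl

theorem BB_nonneg (n : ℕ) : 0 ≤ BB n := by
  rcases n with _ | _ | _ | n <;> simp only [BB] <;> positivity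

theorem BB_le {m : ℕ} (hm : 1 ≤ m) : BB m ≤ 11 ^ (m - 1) := by
  rcases m with _ | _ | _ | n
  · omega
  · norm_num [BB]
  · norm_num [BB]
  · simp only [BB]
    have : n + 1 + 1 + 1 - 1 = (n + 1) + 1 := by omega
    rw [this, pow_succ _ (n + 1)]
    have h : (0 : ℚ) < 11 ^ (n + 1) := by positivity
    generalize (11 : ℚ) ^ (n + 1) = x at h ⊢
    linarith

theorem BB_le' {m : ℕ} (hm : 2 ≤ m) : BB m ≤ 6 / 11 * 11 ^ (m - 1) := by
  rcases m with _ | _ | _ | n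
  · omega
  · omega
  · norm_num [BB]
  · simp only [BB]
    have : n + 1 + 1 + 1 - 1 = (n + 1) + 1 := by omega
    rw [this, pow_succ _ (n + 1)]
    have h : (0 : ℚ) < 11 ^ (n + 1) := by positivity
    generalize (11 : ℚ) ^ (n + 1) = x at h ⊢
    linarith

theorem prod_le {ι : Type*} [Fintype ι] (m : ι → ℕ) (hm : ∀ i, 1 ≤ m i) :
    ∏ i, BB (m i) ≤ 11 ^ (∑ i, m i - Fintype.card ι) := by
  calc ∏ i, BB (m i) ≤ ∏ i, (11 : ℚ) ^ (m i - 1) :=
        Finset.prod_le_prod (fun i _ => BB_nonneg _) (fun i _ => BB_le (hm i))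
    _ = 11 ^ (∑ i, (m i - 1)) := Finset.prod_pow_eq_pow_sum _ _ _
    _ = _ := by
        congr 1
        have h : ∑ i, (m i - 1) + Fintype.card ι = ∑ i, m i := by
          rw [← Finset.card_univ, Finset.card_eq_sum_ones, ← Finset.sum_add_distrib]
          exact Finset.sum_congr rfl (fun i _ => by have := hm i; omega)
        omega

theorem prod_le' {ι : Type*} [Fintype ι] (m : ι → ℕ) (hm : ∀ i, 1 ≤ m i) (i₀ : ι)
    (hi : 2 ≤ m i₀) : ∏ i, BB (m i) ≤ 6 / 11 * 11 ^ (∑ i, m i - Fintype.card ι) := by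
  classical
  have h : ∑ i, (m i - 1) + Fintype.card ι = ∑ i, m i := by
    rw [← Finset.card_univ, Finset.card_eq_sum_ones, ← Finset.sum_add_distrib]
    exact Finset.sum_congr rfl (fun i _ => by have := hm i; omega)
  have h2 : ∑ i, m i - Fintype.card ι = ∑ i, (m i - 1) := by omega
  rw [h2, ← Finset.prod_pow_eq_pow_sum, ← Finset.mul_prod_erase _ _ (Finset.mem_univ i₀),
    ← Finset.mul_prod_erase _ (fun i => (11 : ℚ) ^ (m i - 1)) (Finset.mem_univ i₀),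
    ← mul_assoc]
  exact mul_le_mul (BB_le' hi) (Finset.prod_le_prod (fun i _ => BB_nonneg _)
    (fun i _ => BB_le (hm i))) (Finset.prod_nonneg (fun i _ => BB_nonneg _)) (by positivity)

theorem sq_le_of_cube {S c : ℚ} (hc : 0 ≤ c) (h : (S ^ 3) ^ 2 ≤ c ^ 3) : S ^ 2 ≤ c := by
  have h1 : (S ^ 2) ^ 3 ≤ c ^ 3 := by
    calc (S ^ 2) ^ 3 = (S ^ 3) ^ 2 := by ring
      _ ≤ _ := h
  exact le_of_pow_le_pow_left₀ (by norm_num) hc h1

theorem num_gen {S r : ℕ} (hr : 2 ≤ r) (hS : S ^ 3 ≤ 24 ^ (r - 1)) :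
    (S : ℚ) ^ 2 * (6 / 11) ≤ 599 / 100 * 11 ^ (r - 2) := by
  obtain ⟨k, rfl⟩ := Nat.exists_eq_add_of_le' hr
  have h1 : ((S : ℚ) ^ 3) ^ 2 ≤ (599 / 100 * 11 ^ k * (11 / 6)) ^ 3 := by
    have h2 : ((S : ℚ) ^ 3) ≤ 24 ^ (k + 1) := by
      have : k + 2 - 1 = k + 1 := by omega
      rw [this] at hS
      exact_mod_cast hS
    calc ((S : ℚ) ^ 3) ^ 2 ≤ (24 ^ (k + 1)) ^ 2 := by gcongr
      _ = 576 * 576 ^ k := by rw [← pow_mul, mul_comm, pow_mul, pow_succ]; norm_num; ring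
      _ ≤ 1324 * 1331 ^ k := by
          gcongr <;> norm_num
      _ ≤ (599 / 100 * (11 / 6)) ^ 3 * (11 ^ 3) ^ k := by
          norm_num
      _ = _ := by rw [← pow_mul, mul_comm 3 k, pow_mul]; ring
  have h3 := sq_le_of_cube (by positivity) h1
  simp only [Nat.add_sub_cancel]
  linarith

theorem num_one {S r : ℕ} (hr : 4 ≤ r) (hS : S ^ 3 ≤ 24 ^ (r - 1)) :
    (S : ℚ) ^ 2 ≤ 599 / 100 * 11 ^ (r - 2) := by
  obtain ⟨k, rfl⟩ := Nat.exists_eq_add_of_le' hr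
  apply sq_le_of_cube (by positivity)
  have h2 : ((S : ℚ) ^ 3) ≤ 24 ^ (k + 3) := by
    have : k + 4 - 1 = k + 3 := by omega
    rw [this] at hS
    exact_mod_cast hS
  have h3 : k + 4 - 2 = k + 2 := by omega
  rw [h3]
  calc ((S : ℚ) ^ 3) ^ 2 ≤ (24 ^ (k + 3)) ^ 2 := by gcongr
    _ = 576 ^ 3 * 576 ^ k := by rw [← pow_mul, mul_comm, pow_mul, pow_add]; norm_num; ring
    _ ≤ ((599 / 100) ^ 3 * 1331 ^ 2) * 1331 ^ k := by
        gcongr <;> norm_num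
    _ = (599 / 100 * 11 ^ (k + 2)) ^ 3 := by
        have : (1331 : ℚ) = 11 ^ 3 := by norm_num
        rw [this, ← pow_mul, ← pow_mul, mul_pow, ← pow_mul, mul_assoc, ← pow_add]
        congr 2
        ring

end Cfsg.Agent.H558.CP
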